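import Cfsg.Agent.H418.KB.Defs
import Cfsg.Agent.H418.KB.Hom
import Cfsg.Agent.H175.SympConj
import Cfsg.Agent.H193.SsConj

/-!
# S4822, classical rows: conjugacy of an isometry of order `p` with its powers (helper560)

`Spl B G` (`Cfsg.Agent.H418.KB.Defs`), `y ∈ G`, `y ^ p = 1`, `p` odd, `p ∤ q = |F|`:
* `conj_q` : `c * y * c⁻¹ = y ^ q` for some `c ∈ G` trivial on `C_V(y)`;
* `conj_inv` : `c * y * c⁻¹ = y⁻¹` for some `c ∈ G` trivial on `C_V(y)`;
* `exists_norm` : a similitude of `[V, y]` with factor `nu ≠ 0`, commuting with `y`, trivial on `C_V(y)`.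
-/

set_option autoImplicit false
set_option linter.unusedSectionVars false

namespace Cfsg.Agent.H560.KBConj

open Module Polynomial Cfsg.Agent.H418.KB

section adj

variable {F V : Type*} [Field F] [AddCommGroup V] [Module F V] [FiniteDimensional F V]
  {B : V →ₗ[F] V →ₗ[F] F}

/-- the form as an equivalence with the dual space -/
noncomputable def dualEquiv (B : V →ₗ[F] V →ₗ[F] F) (nd : ∀ u, (∀ v, B u v = 0) → u = 0) : V ≃ₗ[F] Module.Dual F V :=
  LinearMap.linearEquivOfInjective B (by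
    rw [← LinearMap.ker_eq_bot, eq_bot_iff]
    intro u hu
    rw [LinearMap.mem_ker] at hu
    exact nd u fun v => by rw [hu, LinearMap.zero_apply]) Subspace.dual_finrank_eq.symm

/-- the adjoint -/
noncomputable def adj (B : V →ₗ[F] V →ₗ[F] F) (nd : ∀ u, (∀ v, B u v = 0) → u = 0) :
    Module.End F V →+ Module.End F V where
  toFun X := (dualEquiv B nd).symm.toLinearMap ∘ₗ Module.Dual.transpose (R := F) X ∘ₗ (dualEquiv B nd).toLinearMap
  map_zero' := by
    rw [map_zero, LinearMap.zero_comp, LinearMap.comp_zero]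
  map_add' X Y := by
    rw [map_add, LinearMap.add_comp, LinearMap.comp_add]

variable (nd : ∀ u, (∀ v, B u v = 0) → u = 0)

theorem adj_spec (X : Module.End F V) (u v : V) : B (adj B nd X u) v = B u (X v) := by
  have h1 : (dualEquiv B nd) (adj B nd X u) = Module.Dual.transpose (R := F) X (dualEquiv B nd u) :=
    LinearEquiv.apply_symm_apply _ _
  exact LinearMap.congr_fun h1 v

include nd in
theorem ext_form {X Y : Module.End F V} (h : ∀ u v, B (X u) v = B (Y u) v) : X = Y := by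
  apply LinearMap.ext
  intro u
  rw [← sub_eq_zero]
  apply nd
  intro v
  rw [map_sub, LinearMap.sub_apply, h, sub_self]

theorem adj_one : adj B nd 1 = 1 := ext_form nd fun u v => by rw [adj_spec]; rfl

theorem adj_mul (X Y : Module.End F V) : adj B nd (X * Y) = adj B nd Y * adj B nd X :=
  ext_form nd fun u v => by
    rw [adj_spec, Module.End.mul_apply, Module.End.mul_apply, adj_spec, adj_spec]

theorem adj_adj {ε : F} (hε : ε * ε = 1) (hB : ∀ u v, B u v = ε * B v u) (X : Module.End F V) :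
    adj B nd (adj B nd X) = X :=
  ext_form nd fun u v => by
    rw [adj_spec, hB, adj_spec, hB, ← mul_assoc, hε, one_mul]

theorem adj_pow (X : Module.End F V) (k : ℕ) : adj B nd (X ^ k) = (adj B nd X) ^ k := by
  induction k with
  | zero => rw [pow_zero, pow_zero, adj_one]
  | succ k ih => rw [pow_succ, adj_mul, ih, pow_succ']

theorem adj_smul_one (a : F) : adj B nd (a • 1) = a • 1 :=
  ext_form nd fun u v => by
    rw [adj_spec, LinearMap.smul_apply, LinearMap.smul_apply, map_smul, map_smul, LinearMap.smul_apply]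
    rfl

/-- the adjoint has the same characteristic polynomial -/
theorem charpoly_adj (X : Module.End F V) : (adj B nd X).charpoly = X.charpoly := by
  have h1 : adj B nd X = (dualEquiv B nd).symm.conj (Module.Dual.transpose (R := F) X) := rfl
  rw [h1, LinearEquiv.charpoly_conj]
  let b := Module.finBasis F V
  rw [← LinearMap.charpoly_toMatrix (Module.Dual.transpose (R := F) X) b.dualBasis, LinearMap.toMatrix_transpose,
    Matrix.charpoly_transpose, LinearMap.charpoly_toMatrix]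

end adj

section proj

variable {F M : Type*} [Field F] [Ring M] [Algebra F M] {p : ℕ}

/-- the projection on the fixed points -/
noncomputable def pj (F : Type*) {M : Type*} [Field F] [Ring M] [Algebra F M] (p : ℕ) (A : M) : M :=
  (p : F)⁻¹ • ∑ i ∈ Finset.range p, A ^ i

theorem mul_sum_pow {A : M} (h : A ^ p = 1) : A * ∑ i ∈ Finset.range p, A ^ i = ∑ i ∈ Finset.range p, A ^ i := by
  have h1 : (∑ i ∈ Finset.range p, A ^ i) * (A - 1) = A ^ p - 1 := geom_sum_mul A p
  have h2 : (A - 1) * (∑ i ∈ Finset.range p, A ^ i) = A ^ p - 1 := mul_geom_sum A p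
  rw [h, sub_self, sub_mul, one_mul, sub_eq_zero] at h2
  exact h2

theorem mul_pj {A : M} (h : A ^ p = 1) : A * pj F p A = pj F p A := by
  rw [pj, mul_smul_comm, mul_sum_pow h]

theorem pj_mul {A : M} (h : A ^ p = 1) : pj F p A * A = pj F p A := by
  have h1 : (∑ i ∈ Finset.range p, A ^ i) * (A - 1) = A ^ p - 1 := geom_sum_mul A p
  rw [h, sub_self, mul_sub, mul_one, sub_eq_zero] at h1
  rw [pj, smul_mul_assoc, h1]

theorem pj_mul_of (hp : (p : F) ≠ 0) {A X : M} (h : A * X = X) : pj F p A * X = X := by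
  have h1 : ∀ i : ℕ, A ^ i * X = X := by
    intro i
    induction i with
    | zero => rw [pow_zero, one_mul]
    | succ i ih => rw [pow_succ, mul_assoc, h, ih]
  rw [pj, smul_mul_assoc, Finset.sum_mul, Finset.sum_congr rfl fun i _ => h1 i, Finset.sum_const, Finset.card_range,
    ← Nat.cast_smul_eq_nsmul F, smul_smul, inv_mul_cancel₀ hp, one_smul]

theorem mul_pj_of (hp : (p : F) ≠ 0) {A X : M} (h : X * A = X) : X * pj F p A = X := by
  have h1 : ∀ i : ℕ, X * A ^ i = X := by
    intro i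
    induction i with
    | zero => rw [pow_zero, mul_one]
    | succ i ih => rw [pow_succ, ← mul_assoc, ih, h]
  rw [pj, mul_smul_comm, Finset.mul_sum, Finset.sum_congr rfl fun i _ => h1 i, Finset.sum_const, Finset.card_range,
    ← Nat.cast_smul_eq_nsmul F, smul_smul, inv_mul_cancel₀ hp, one_smul]

theorem pj_pj (hp : (p : F) ≠ 0) {A : M} (h : A ^ p = 1) : pj F p A * pj F p A = pj F p A :=
  pj_mul_of hp (mul_pj h)

/-- elements intertwining `A` and a power generating the same group commute with the projection -/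
theorem pj_comm (hp : (p : F) ≠ 0) {A g : M} (h : A ^ p = 1) {j k : ℕ} (hg : g * A = A ^ j * g) (hk : (A ^ j) ^ k = A) :
    g * pj F p A = pj F p A * g := by
  have hj : A ^ j * pj F p A = pj F p A := by
    clear hg hk
    induction j with
    | zero => rw [pow_zero, one_mul]
    | succ j ih => rw [pow_succ, mul_assoc, mul_pj h, ih]
  have hj' : pj F p A * A ^ j = pj F p A := by
    clear hg hk hj
    induction j with
    | zero => rw [pow_zero, mul_one]
    | succ j ih => rw [pow_succ, ← mul_assoc, ih, pj_mul h]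
  have h1 : A ^ j * (g * pj F p A) = g * pj F p A := by
    rw [← mul_assoc, ← hg, mul_assoc, mul_pj h]
  have h2 : A * (g * pj F p A) = g * pj F p A := by
    have h3 : ∀ m : ℕ, (A ^ j) ^ m * (g * pj F p A) = g * pj F p A := by
      intro m
      induction m with
      | zero => rw [pow_zero, one_mul]
      | succ m ih => rw [pow_succ, mul_assoc, h1, ih]
    have h4 := h3 k
    rwa [hk] at h4
  have h3 : (pj F p A * g) * A = pj F p A * g := by
    rw [mul_assoc, hg, ← mul_assoc, hj']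
  rw [← pj_mul_of hp h2, ← mul_assoc, mul_pj_of hp h3]

end proj

section main

variable {F V : Type*} [Field F] [Fintype F] [AddCommGroup V] [Module F V] [FiniteDimensional F V]
  {B : V →ₗ[F] V →ₗ[F] F} {G : Subgroup (V ≃ₗ[F] V)} {p : ℕ}

omit [FiniteDimensional F V] in
theorem cast_ne_zero (hp : p.Prime) (hpF : ¬ p ∣ Fintype.card F) : (p : F) ≠ 0 := by
  intro h
  obtain ⟨r, hr⟩ := CharP.exists F
  obtain ⟨n, hr1, hn⟩ := FiniteField.card F r
  have h1 : r ∣ p := (CharP.cast_eq_zero_iff F r p).1 h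
  have h2 : r = p := (Nat.prime_dvd_prime_iff_eq hr1 hp).1 h1
  apply hpF
  rw [hn, ← h2]
  exact dvd_pow_self r n.ne_zero

/-- the endomorphism of an automorphism -/
def en (y : V ≃ₗ[F] V) : Module.End F V := y.toLinearMap

omit [Fintype F] [FiniteDimensional F V] in
theorem en_mul (x y : V ≃ₗ[F] V) : en (x * y) = en x * en y := rfl

omit [Fintype F] [FiniteDimensional F V] in
theorem en_one : en (1 : V ≃ₗ[F] V) = 1 := rfl

omit [Fintype F] [FiniteDimensional F V] in
theorem en_pow (y : V ≃ₗ[F] V) (k : ℕ) : en (y ^ k) = en y ^ k := by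
  induction k with
  | zero => rfl
  | succ k ih => rw [pow_succ, pow_succ, en_mul, ih]

omit [Fintype F] [FiniteDimensional F V] in
theorem en_apply (y : V ≃ₗ[F] V) (v : V) : en y v = y v := rfl

/-- semisimple similarity -/
theorem exists_lin (hp : (p : F) ≠ 0) {f h : Module.End F V} (hf : f ^ p = 1) (hh : h ^ p = 1)
    (hch : f.charpoly = h.charpoly) : ∃ e : V ≃ₗ[F] V, ∀ v, e (f v) = h (e v) := by
  let b := (Module.finBasis F V).equivFun
  let φ := b.conjAlgEquiv F
  have h1 : ∀ g : Module.End F V, g ^ p = 1 → aeval (φ g) (X ^ p - C (1 : F)) = 0 := by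
    intro g hg
    rw [map_sub, map_pow, aeval_X, aeval_C, ← map_pow, hg, map_one, map_one, sub_self]
  obtain ⟨e, he⟩ := Cfsg.Agent.H193.SsConj.exists_equiv_aux _ (φ f) (φ h) (X ^ p - C (1 : F)) le_rfl
    (Polynomial.separable_X_pow_sub_C (1 : F) hp one_ne_zero).squarefree (h1 f hf) (h1 h hh) (by
      have h2 : ∀ g : Module.End F V, (φ g).charpoly = g.charpoly := fun g => LinearEquiv.charpoly_conj b g
      rw [h2, h2, hch])
  refine ⟨(b.trans e).trans b.symm, fun v => ?_⟩
  have h3 := he (b v)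
  have h4 : ∀ g : Module.End F V, ∀ v, φ g (b v) = b (g v) := fun g v => by
    show b (g (b.symm (b v))) = b (g v)
    rw [b.symm_apply_apply]
  show b.symm (e (b (f v))) = h (b.symm (e (b v)))
  rw [← h4, h3, LinearEquiv.symm_apply_eq, ← h4, b.apply_symm_apply]

theorem charpoly_pow_card (f : Module.End F V) : (f ^ Fintype.card F).charpoly = f.charpoly := by
  classical
  let b := Module.finBasis F V
  rw [← LinearMap.charpoly_toMatrix (f ^ Fintype.card F) b, ← LinearMap.charpoly_toMatrix f b]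
  have h1 : LinearMap.toMatrix b b (f ^ Fintype.card F) = (LinearMap.toMatrix b b f) ^ Fintype.card F :=
    map_pow (LinearMap.toMatrixAlgEquiv b) f _
  rw [h1, FiniteField.Matrix.charpoly_pow_card]

theorem adj_en (nd : ∀ u, (∀ v, B u v = 0) → u = 0) {y : V ≃ₗ[F] V} (hy : ∀ u v, B (y u) (y v) = B u v) :
    adj B nd (en y) = en y⁻¹ :=
  ext_form nd fun u v => by
    rw [adj_spec, en_apply, en_apply, ← hy (y⁻¹ u) v]
    congr 2
    exact (LinearEquiv.apply_symm_apply y u).symm

/-- `y` and `y⁻¹` agree only on fixed vectors -/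
theorem fix_of_sq (h2 : 2 < p) (hp : p.Prime) {y : V ≃ₗ[F] V} (hyp : y ^ p = 1) {w : V} (h : y w = y⁻¹ w) : y w = w := by
  have h1 : (y ^ 2) w = w := by
    rw [pow_two, LinearEquiv.mul_apply, h]
    exact LinearEquiv.apply_symm_apply y w
  have h3 : ∀ k : ℕ, ((y ^ 2) ^ k) w = w := by
    intro k
    induction k with
    | zero => rfl
    | succ k ih => rw [pow_succ, LinearEquiv.mul_apply, h1, ih]
  obtain ⟨k, hk⟩ : ∃ k, p = 2 * k + 1 := by
    rcases hp.eq_two_or_odd' with h0 | h0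
    · omega
    · exact h0
  have h4 := h3 (k + 1)
  have h5 : (y ^ 2) ^ (k + 1) = y := by
    rw [← pow_mul, show 2 * (k + 1) = p + 1 by omega, pow_succ, hyp, one_mul]
  rwa [h5] at h4

/-- the corner of `[V, y]` -/
theorem corner (hp : p.Prime) (h2 : 2 < p) (hpF : ¬ p ∣ Fintype.card F) {ε : F} (hε : ε * ε = 1)
    (hB : ∀ u v, B u v = ε * B v u) (nd : ∀ u, (∀ v, B u v = 0) → u = 0) {y : V ≃ₗ[F] V}
    (hy : ∀ u v, B (y u) (y v) = B u v) (hyp : y ^ p = 1) {h : Module.End F V} (hh : adj B nd h = h) (hhu : IsUnit h)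
    (hyh : en y * h = h * en y) :
    ∃ c : Module.End F V, IsUnit c ∧ adj B nd c * c = (1 - pj F p (en y)) * h + pj F p (en y) ∧
      en y * c = c * en y ∧ c * pj F p (en y) = pj F p (en y) := by
  classical
  have hpF' := cast_ne_zero hp hpF
  have hAp : (en y) ^ p = 1 := by rw [← en_pow, hyp, en_one]
  have hAA : en y * en y⁻¹ = 1 := by rw [← en_mul, mul_inv_cancel, en_one]
  have hAA' : en y⁻¹ * en y = 1 := by rw [← en_mul, inv_mul_cancel, en_one]
  have hτA : adj B nd (en y) = en y⁻¹ := adj_en nd hy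
  have hτA' : adj B nd (en y⁻¹) = en y := by rw [← hτA, adj_adj nd hε hB]
  obtain ⟨π, hπ⟩ : ∃ π, π = pj F p (en y) := ⟨_, rfl⟩
  rw [← hπ]
  have p1 : en y * π = π := by rw [hπ]; exact mul_pj hAp
  have p2 : π * en y = π := by rw [hπ]; exact pj_mul hAp
  have pp : π * π = π := by rw [hπ]; exact pj_pj hpF' hAp
  have p3 : en y⁻¹ * π = π := by
    calc en y⁻¹ * π = en y⁻¹ * (en y * π) := by rw [p1]
      _ = π := by rw [← mul_assoc, hAA', one_mul]
  have p4 : π * en y⁻¹ = π := by
    calc π * en y⁻¹ = (π * en y) * en y⁻¹ := by rw [p2]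
      _ = π := by rw [mul_assoc, hAA, mul_one]
  have hτπ : adj B nd π = π := by
    have t1 : en y * adj B nd π = adj B nd π := by
      have := congrArg (adj B nd) p4
      rwa [adj_mul, hτA'] at this
    have t2 : π * adj B nd π = adj B nd π := by rw [hπ] at t1 ⊢; exact pj_mul_of hpF' t1
    have t3 := congrArg (adj B nd) t2
    rw [adj_mul, adj_adj nd hε hB, t2] at t3
    exact t3
  have hhπ : h * π = π * h := by
    rw [hπ]
    exact pj_comm hpF' hAp (j := 1) (k := 1) (by rw [pow_one, hyh]) (by rw [pow_one, pow_one])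
  have hee : (1 - π) * (1 - π) = 1 - π := by
    rw [mul_sub, mul_one, sub_mul, one_mul, pp, sub_self, sub_zero]
  have hτe : adj B nd (1 - π) = 1 - π := by rw [map_sub, adj_one, hτπ]
  have hAe : en y * (1 - π) = (1 - π) * en y := by rw [mul_sub, sub_mul, mul_one, one_mul, p1, p2]
  have heh : (1 - π) * h = h * (1 - π) := by rw [mul_sub, sub_mul, mul_one, one_mul, hhπ]
  have hA'e : en y⁻¹ * (1 - π) = (1 - π) * en y⁻¹ := by rw [mul_sub, sub_mul, mul_one, one_mul, p3, p4]
  have hfin : Finite (Module.End F V) := by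
    have : Finite V := Module.finite_of_finite F
    exact Finite.of_injective (fun f : Module.End F V => (f : V → V)) DFunLike.coe_injective
  have hu : IsUnit ((1 - π) * (en y - en y⁻¹) ^ 2 + (1 - (1 - π))) := by
    rw [LinearMap.isUnit_iff_ker_eq_bot, eq_bot_iff]
    intro v hv
    rw [LinearMap.mem_ker, sub_sub_cancel] at hv
    rw [Submodule.mem_bot]
    have q1 : π v = 0 := by
      have q0 : π * ((1 - π) * (en y - en y⁻¹) ^ 2 + π) = π := by
        rw [mul_add, ← mul_assoc, mul_sub, mul_one, pp, sub_self, zero_mul, zero_add]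
      have := congrArg (fun w => π w) hv
      simp only [map_zero] at this
      rw [← Module.End.mul_apply, q0] at this
      exact this
    have key : ∀ w, π w = 0 → (en y - en y⁻¹) w = 0 → w = 0 := by
      intro w h1 h3
      rw [LinearMap.sub_apply, sub_eq_zero] at h3
      have h4 : y w = w := fix_of_sq h2 hp hyp h3
      have h5 : π w = w := by
        have h7 : ∀ i : ℕ, ((en y) ^ i) w = w := by
          intro i
          induction i with
          | zero => rfl
          | succ i ih => rw [pow_succ, Module.End.mul_apply, en_apply, h4, ih]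
        rw [hπ, pj, LinearMap.smul_apply, LinearMap.sum_apply, Finset.sum_congr rfl fun i _ => h7 i, Finset.sum_const,
          Finset.card_range, ← Nat.cast_smul_eq_nsmul F, smul_smul, inv_mul_cancel₀ hpF', one_smul]
      rw [← h5, h1]
    have q2 : (en y - en y⁻¹) ((en y - en y⁻¹) v) = 0 := by
      have q0 : (1 - π) * (en y - en y⁻¹) ^ 2 = (en y - en y⁻¹) ^ 2 * (1 - π) := by
        have : (1 - π) * (en y - en y⁻¹) = (en y - en y⁻¹) * (1 - π) := by
          rw [mul_sub, sub_mul (en y), hAe, hA'e]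
        rw [pow_two, ← mul_assoc, this, mul_assoc, this, mul_assoc]
      rw [LinearMap.add_apply, q1, add_zero, q0, Module.End.mul_apply, LinearMap.sub_apply, q1, sub_zero] at hv
      rw [pow_two] at hv
      exact hv
    have q3 : π ((en y - en y⁻¹) v) = 0 := by
      rw [← Module.End.mul_apply, mul_sub, p2, p4, sub_self, LinearMap.zero_apply]
    exact key v q1 (key _ q3 q2)
  obtain ⟨c, hc1, hc2, hc3, hc4⟩ := Cfsg.Agent.H175.SympConj.exists_norm_corner (adj B nd) (adj_one nd) (adj_mul nd)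
    (en y) (en y⁻¹) (1 - π) h hτA hτA' hAA hAA' hτe hee hh hhu hyh hAe heh hu
  have hyc : en y * c = c * en y := hc4 (en y) rfl (by rw [hAA, hAA']) hyh hAe
  have cπ : c * π = 0 := by
    rw [← hc2, mul_assoc, sub_mul, one_mul, pp, sub_self, mul_zero]
  have πc : π * c = 0 := by
    rw [← hc1, ← mul_assoc, mul_sub, mul_one, pp, sub_self, zero_mul]
  have τcπ : adj B nd c * π = 0 := by
    have := congrArg (adj B nd) πc
    rwa [adj_mul, hτπ, map_zero] at this
  have hprod : adj B nd (c + π) * (c + π) = (1 - π) * h + π := by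
    rw [map_add, hτπ, mul_add, add_mul, add_mul, hc3, τcπ, πc, pp, zero_add, add_zero]
  refine ⟨c + π, ?_, hprod, ?_, ?_⟩
  · obtain ⟨u, rfl⟩ := hhu
    have hui : (↑u⁻¹ : Module.End F V) * π = π * ↑u⁻¹ := by
      calc (↑u⁻¹ : Module.End F V) * π = ↑u⁻¹ * π * (↑u * ↑u⁻¹) := by rw [Units.mul_inv, mul_one]
        _ = ↑u⁻¹ * (π * ↑u) * ↑u⁻¹ := by simp only [mul_assoc]
        _ = ↑u⁻¹ * (↑u * π) * ↑u⁻¹ := by rw [hhπ]
        _ = (↑u⁻¹ * ↑u) * π * ↑u⁻¹ := by simp only [mul_assoc]
        _ = π * ↑u⁻¹ := by rw [Units.inv_mul, one_mul]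
    have hui' : (1 - π) * (↑u⁻¹ : Module.End F V) = ↑u⁻¹ * (1 - π) := by
      rw [mul_sub, sub_mul, mul_one, one_mul, hui]
    have h5 : ((1 - π) * (↑u⁻¹ : Module.End F V) + π) * (adj B nd (c + π) * (c + π)) = 1 := by
      rw [hprod, hui', add_mul, mul_add, mul_add, pp]
      have r1 : (↑u⁻¹ : Module.End F V) * (1 - π) * ((1 - π) * ↑u) = 1 - π := by
        rw [mul_assoc, ← mul_assoc (1 - π), hee, heh, ← mul_assoc, Units.inv_mul, one_mul]
      have r2 : (↑u⁻¹ : Module.End F V) * (1 - π) * π = 0 := by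
        rw [mul_assoc, sub_mul, one_mul, pp, sub_self, mul_zero]
      have r3 : π * ((1 - π) * (↑u : Module.End F V)) = 0 := by
        rw [← mul_assoc, mul_sub, mul_one, pp, sub_self, zero_mul]
      rw [r1, r2, r3]
      abel
    rw [← mul_assoc] at h5
    exact ⟨⟨c + π, _, mul_eq_one_comm.1 h5, h5⟩, rfl⟩
  · rw [mul_add, add_mul, hyc, p1, p2]
  · rw [add_mul, cπ, pp, zero_add]

/-- the decomposition of `V` -/
theorem exists_dec (hp : p.Prime) (hpF : ¬ p ∣ Fintype.card F) {y : V ≃ₗ[F] V} (hyp : y ^ p = 1) (v : V) :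
    ∃ a b, y a = a ∧ v = a + (y b - b) := by
  obtain ⟨N, hN, h⟩ := frob_fix (F := F) hp hpF
  have h1 := h (en y) (by rw [← en_pow, hyp, en_one]) (X - 1)
  rw [map_sub, aeval_X, map_one] at h1
  have h2 := ker_sup_range hN h1
  have h3 : v ∈ LinearMap.ker (en y - 1) ⊔ LinearMap.range (en y - 1) := by rw [h2]; trivial
  obtain ⟨a, ha, w, ⟨b, rfl⟩, rfl⟩ := Submodule.mem_sup.1 h3
  refine ⟨a, b, ?_, rfl⟩
  rw [LinearMap.mem_ker, LinearMap.sub_apply, sub_eq_zero] at ha
  exact ha

/-- **conjugacy of `y` and `y ^ j` from similarity** -/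
theorem exists_conj (hG : Spl B G) (hp : p.Prime) (h2 : 2 < p) (hpF : ¬ p ∣ Fintype.card F) {y : V ≃ₗ[F] V}
    (hy : y ∈ G) (hyp : y ^ p = 1) {j k : ℕ} (hjk : (y ^ j) ^ k = y) (hch : (en y).charpoly = (en y ^ j).charpoly) :
    ∃ c ∈ G, c * y * c⁻¹ = y ^ j ∧ ∀ v, y v = v → c v = v := by
  classical
  obtain ⟨ε, hε, hB⟩ := hG.skew
  have nd := hG.nd
  have hpF' := cast_ne_zero hp hpF
  have hyB := hG.pres y hy
  have hAp : (en y) ^ p = 1 := by rw [← en_pow, hyp, en_one]
  have hAA : en y * en y⁻¹ = 1 := by rw [← en_mul, mul_inv_cancel, en_one]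
  have hAA' : en y⁻¹ * en y = 1 := by rw [← en_mul, inv_mul_cancel, en_one]
  have hτA : adj B nd (en y) = en y⁻¹ := adj_en nd hyB
  obtain ⟨g₀, hg₀⟩ := exists_lin hpF' (f := en y) (h := en y ^ j) hAp
    (by rw [← pow_mul, mul_comm, pow_mul, hAp, one_pow]) hch
  have hg : en g₀ * en y = en y ^ j * en g₀ := LinearMap.ext fun v => hg₀ v
  have hgi : en g₀ * en g₀⁻¹ = 1 := by rw [← en_mul, mul_inv_cancel, en_one]
  have hgi' : en g₀⁻¹ * en g₀ = 1 := by rw [← en_mul, inv_mul_cancel, en_one]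
  have hτg : adj B nd (en g₀) * adj B nd (en g₀⁻¹) = 1 := by rw [← adj_mul, hgi', adj_one]
  have hτg' : adj B nd (en g₀⁻¹) * adj B nd (en g₀) = 1 := by rw [← adj_mul, hgi, adj_one]
  obtain ⟨h, hh⟩ : ∃ h, h = adj B nd (en g₀) * en g₀ := ⟨_, rfl⟩
  have hhτ : adj B nd h = h := by rw [hh, adj_mul, adj_adj nd hε hB]
  have hhu : IsUnit h := by
    refine ⟨⟨h, en g₀⁻¹ * adj B nd (en g₀⁻¹), ?_, ?_⟩, rfl⟩
    · rw [hh, mul_assoc, ← mul_assoc (en g₀), hgi, one_mul, hτg]
    · rw [hh, mul_assoc, ← mul_assoc (adj B nd (en g₀⁻¹)), hτg', one_mul, hgi']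
  have hpw : en y⁻¹ ^ j * en y ^ j = 1 := by
    rw [← en_pow, ← en_pow, ← en_mul, inv_pow, inv_mul_cancel, en_one]
  have hyh : en y * h = h * en y := by
    have e1 : en y⁻¹ * adj B nd (en g₀) = adj B nd (en g₀) * en y⁻¹ ^ j := by
      have := congrArg (adj B nd) hg
      rwa [adj_mul, adj_mul, adj_pow, hτA] at this
    have e2 : en y⁻¹ * h * en y = h := by
      calc en y⁻¹ * h * en y = (en y⁻¹ * adj B nd (en g₀)) * (en g₀ * en y) := by rw [hh]; simp only [mul_assoc]
        _ = adj B nd (en g₀) * ((en y⁻¹ ^ j * en y ^ j) * en g₀) := by rw [e1, hg]; simp only [mul_assoc]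
        _ = h := by rw [hpw, one_mul, hh]
    calc en y * h = en y * (en y⁻¹ * h * en y) := by rw [e2]
      _ = (en y * en y⁻¹) * h * en y := by simp only [mul_assoc]
      _ = h * en y := by rw [hAA, one_mul]
  obtain ⟨c₁, ⟨u, rfl⟩, hprod, hyc, hcπ⟩ := corner hp h2 hpF hε hB nd hyB hyp hhτ hhu hyh
  obtain ⟨π, hπ⟩ : ∃ π, π = pj F p (en y) := ⟨_, rfl⟩
  rw [← hπ] at hprod hcπ
  have p1 : en y * π = π := by rw [hπ]; exact mul_pj hAp
  have p2 : π * en y = π := by rw [hπ]; exact pj_mul hAp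
  have pp : π * π = π := by rw [hπ]; exact pj_pj hpF' hAp
  have hjk' : (en y ^ j) ^ k = en y := by rw [← en_pow, ← en_pow, hjk]
  have hgπ : en g₀ * π = π * en g₀ := by rw [hπ]; exact pj_comm hpF' hAp hg hjk'
  have hhπ : h * π = π * h := by
    rw [hπ]
    exact pj_comm hpF' hAp (j := 1) (k := 1) (by rw [pow_one, hyh]) (by rw [pow_one, pow_one])
  have hee : (1 - π) * (1 - π) = 1 - π := by
    rw [mul_sub, mul_one, sub_mul, one_mul, pp, sub_self, sub_zero]
  have πe : π * (1 - π) = 0 := by rw [mul_sub, mul_one, pp, sub_self]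
  have eπ : (1 - π) * π = 0 := by rw [sub_mul, one_mul, pp, sub_self]
  have hτπ : adj B nd π = π := by
    have p4 : π * en y⁻¹ = π := by
      calc π * en y⁻¹ = (π * en y) * en y⁻¹ := by rw [p2]
        _ = π := by rw [mul_assoc, hAA, mul_one]
    have t1 : en y * adj B nd π = adj B nd π := by
      have := congrArg (adj B nd) p4
      rwa [adj_mul, ← hτA, adj_adj nd hε hB] at this
    have t2 : π * adj B nd π = adj B nd π := by rw [hπ] at t1 ⊢; exact pj_mul_of hpF' t1
    have t3 := congrArg (adj B nd) t2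
    rw [adj_mul, adj_adj nd hε hB, t2] at t3
    exact t3
  have hτe : adj B nd (1 - π) = 1 - π := by rw [map_sub, adj_one, hτπ]
  have heh : (1 - π) * h = h * (1 - π) := by rw [mul_sub, sub_mul, mul_one, one_mul, hhπ]
  -- the second factor
  obtain ⟨g₁, hg₁⟩ : ∃ g₁, g₁ = en g₀ * (1 - π) + π := ⟨_, rfl⟩
  have hg₁p : adj B nd g₁ * g₁ = (1 - π) * h + π := by
    have r1 : (1 - π) * adj B nd (en g₀) * (en g₀ * (1 - π)) = (1 - π) * h := by
      calc (1 - π) * adj B nd (en g₀) * (en g₀ * (1 - π)) = (1 - π) * h * (1 - π) := by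
            rw [hh]; simp only [mul_assoc]
        _ = h * ((1 - π) * (1 - π)) := by rw [heh, mul_assoc]
        _ = (1 - π) * h := by rw [hee, heh]
    have r2 : π * (en g₀ * (1 - π)) = 0 := by rw [← mul_assoc, ← hgπ, mul_assoc, πe, mul_zero]
    have r3 : (1 - π) * adj B nd (en g₀) * π = 0 := by
      have := congrArg (adj B nd) r2
      rwa [adj_mul, adj_mul, hτe, hτπ, map_zero] at this
    rw [hg₁, map_add, adj_mul, hτe, hτπ, mul_add, add_mul, add_mul, r1, r2, r3, pp]
    abel
  obtain ⟨c, hc⟩ : ∃ c, c = g₁ * (↑u⁻¹ : Module.End F V) := ⟨_, rfl⟩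
  have hcc : adj B nd c * c = 1 := by
    rw [hc, adj_mul, mul_assoc, ← mul_assoc (adj B nd g₁), hg₁p, ← hprod]
    calc adj B nd (↑u⁻¹ : Module.End F V) * (adj B nd ↑u * ↑u * ↑u⁻¹)
        = (adj B nd (↑u⁻¹ : Module.End F V) * adj B nd ↑u) * (↑u * ↑u⁻¹) := by simp only [mul_assoc]
      _ = 1 := by rw [← adj_mul, Units.mul_inv, adj_one, mul_one]
  have hcc' : c * adj B nd c = 1 := mul_eq_one_comm.1 hcc
  have hAjπ : en y ^ j * π = π := by
    clear hjk hch hg₀ hg hpw hjk'
    induction j with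
    | zero => rw [pow_zero, one_mul]
    | succ j ih => rw [pow_succ, mul_assoc, p1, ih]
  have hui : (↑u⁻¹ : Module.End F V) * en y = en y * ↑u⁻¹ := by
    calc (↑u⁻¹ : Module.End F V) * en y = ↑u⁻¹ * (en y * (↑u * ↑u⁻¹)) := by rw [Units.mul_inv, mul_one]
      _ = ↑u⁻¹ * (en y * ↑u) * ↑u⁻¹ := by simp only [mul_assoc]
      _ = ↑u⁻¹ * (↑u * en y) * ↑u⁻¹ := by rw [hyc]
      _ = (↑u⁻¹ * ↑u) * en y * ↑u⁻¹ := by simp only [mul_assoc]
      _ = en y * ↑u⁻¹ := by rw [Units.inv_mul, one_mul]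
  have hg₁y : g₁ * en y = en y ^ j * g₁ := by
    have e1 : (1 - π) * en y = en y * (1 - π) := by rw [mul_sub, sub_mul, mul_one, one_mul, p1, p2]
    rw [hg₁, add_mul, mul_add, mul_assoc, e1, ← mul_assoc, hg, p2, hAjπ, mul_assoc]
  have hcy : c * en y = en y ^ j * c := by
    rw [hc, mul_assoc, hui, ← mul_assoc, hg₁y, mul_assoc]
  have huπ : (↑u⁻¹ : Module.End F V) * π = π := by
    calc (↑u⁻¹ : Module.End F V) * π = ↑u⁻¹ * (↑u * π) := by rw [hcπ]
      _ = π := by rw [← mul_assoc, Units.inv_mul, one_mul]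
  have hcπ' : c * π = π := by
    rw [hc, mul_assoc, huπ, hg₁, add_mul, mul_assoc, eπ, mul_zero, zero_add, pp]
  have hfix : ∀ v, y v = v → π v = v := by
    intro w h4
    have h7 : ∀ i : ℕ, ((en y) ^ i) w = w := by
      intro i
      induction i with
      | zero => rfl
      | succ i ih => rw [pow_succ, Module.End.mul_apply, en_apply, h4, ih]
    rw [hπ, pj, LinearMap.smul_apply, LinearMap.sum_apply, Finset.sum_congr rfl fun i _ => h7 i, Finset.sum_const,
      Finset.card_range, ← Nat.cast_smul_eq_nsmul F, smul_smul, inv_mul_cancel₀ hpF', one_smul]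
  let z : V ≃ₗ[F] V := LinearEquiv.ofLinearMap c (adj B nd c) hcc' hcc
  have hz : ∀ v, z v = c v := fun v => rfl
  have hzfix : ∀ v, y v = v → z v = v := by
    intro v hv
    have h1 : (c * π) v = π v := by rw [hcπ']
    rw [Module.End.mul_apply, hfix v hv] at h1
    exact h1
  have hzy : ∀ v, z (y v) = (y ^ j) (z v) := by
    intro v
    have h1 := LinearMap.congr_fun hcy v
    rw [← en_pow] at h1
    exact h1
  refine ⟨z, ?_, ?_, hzfix⟩
  · refine hG.full y hy z (fun u v => ?_) j hzy hzfix (exists_dec hp hpF hyp)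
    rw [hz, hz, ← adj_spec nd, ← Module.End.mul_apply, hcc]
    rfl
  · rw [mul_inv_eq_iff_eq_mul]
    exact LinearEquiv.ext hzy

/-- **`y` and `y ^ q` are conjugate** -/
theorem conj_q (hG : Spl B G) (hp : p.Prime) (h2 : 2 < p) (hpF : ¬ p ∣ Fintype.card F) {y : V ≃ₗ[F] V} (hy : y ∈ G)
    (hyp : y ^ p = 1) : ∃ c ∈ G, c * y * c⁻¹ = y ^ Fintype.card F ∧ ∀ v, y v = v → c v = v := by
  have hc : (Fintype.card F).Coprime (orderOf y) :=
    Nat.Coprime.coprime_dvd_right (orderOf_dvd_of_pow_eq_one hyp) ((Nat.Prime.coprime_iff_not_dvd hp).2 hpF).symm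
  obtain ⟨k, hk⟩ := exists_pow_eq_self_of_coprime hc
  exact exists_conj hG hp h2 hpF hy hyp hk (charpoly_pow_card (en y)).symm

/-- **`y` and `y⁻¹` are conjugate** -/
theorem conj_inv (hG : Spl B G) (hp : p.Prime) (h2 : 2 < p) (hpF : ¬ p ∣ Fintype.card F) {y : V ≃ₗ[F] V} (hy : y ∈ G)
    (hyp : y ^ p = 1) : ∃ c ∈ G, c * y * c⁻¹ = y⁻¹ ∧ ∀ v, y v = v → c v = v := by
  have h1 : y ^ (p - 1) = y⁻¹ := by
    rw [eq_inv_iff_mul_eq_one, ← pow_succ, Nat.sub_add_cancel hp.one_lt.le, hyp]
  obtain ⟨c, hc, h3, h4⟩ := exists_conj hG hp h2 hpF hy hyp (j := p - 1) (k := p - 1)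
    (by rw [h1, inv_pow, h1, inv_inv]) (by
      rw [← en_pow, h1, ← adj_en hG.nd (hG.pres y hy), charpoly_adj])
  exact ⟨c, hc, h3.trans h1, h4⟩

/-- **the similitudes of `[V, y]`** -/
theorem exists_norm (hG : Spl B G) (hp : p.Prime) (h2 : 2 < p) (hpF : ¬ p ∣ Fintype.card F) {y : V ≃ₗ[F] V}
    (hy : y ∈ G) (hyp : y ^ p = 1) {nu : F} (hnu : nu ≠ 0) :
    ∃ b : V ≃ₗ[F] V, b * y = y * b ∧ (∀ v, y v = v → b v = v) ∧
      ∀ u v, B (b (y u - u)) (b (y v - v)) = nu * B (y u - u) (y v - v) := by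
  classical
  obtain ⟨ε, hε, hB⟩ := hG.skew
  have nd := hG.nd
  have hpF' := cast_ne_zero hp hpF
  have hyB := hG.pres y hy
  have hAp : (en y) ^ p = 1 := by rw [← en_pow, hyp, en_one]
  obtain ⟨c, ⟨u, rfl⟩, hprod, hyc, hcπ⟩ := corner hp h2 hpF hε hB nd hyB hyp (h := nu • (1 : Module.End F V))
    (adj_smul_one nd nu) ((isUnit_one (M := Module.End F V)).smul (Units.mk0 nu hnu)) (by
      rw [mul_smul_comm, smul_mul_assoc, mul_one, one_mul])
  obtain ⟨π, hπ⟩ : ∃ π, π = pj F p (en y) := ⟨_, rfl⟩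
  rw [← hπ] at hprod hcπ
  have p2 : π * en y = π := by rw [hπ]; exact pj_mul hAp
  have hfix : ∀ v, y v = v → π v = v := by
    intro w h4
    have h7 : ∀ i : ℕ, ((en y) ^ i) w = w := by
      intro i
      induction i with
      | zero => rfl
      | succ i ih => rw [pow_succ, Module.End.mul_apply, en_apply, h4, ih]
    rw [hπ, pj, LinearMap.smul_apply, LinearMap.sum_apply, Finset.sum_congr rfl fun i _ => h7 i, Finset.sum_const,
      Finset.card_range, ← Nat.cast_smul_eq_nsmul F, smul_smul, inv_mul_cancel₀ hpF', one_smul]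
  let z : V ≃ₗ[F] V := LinearEquiv.ofLinearMap (↑u : Module.End F V) ↑u⁻¹ (Units.mul_inv u) (Units.inv_mul u)
  have hz : ∀ v, z v = (↑u : Module.End F V) v := fun v => rfl
  refine ⟨z, ?_, ?_, ?_⟩
  · exact LinearEquiv.ext fun v => (LinearMap.congr_fun hyc v).symm
  · intro v hv
    have h1 : ((↑u : Module.End F V) * π) v = π v := by rw [hcπ]
    rw [Module.End.mul_apply, hfix v hv] at h1
    exact h1
  · intro a b
    have h1 : ∀ w, π (y w - w) = 0 := fun w => by
      rw [map_sub, ← en_apply, ← Module.End.mul_apply, p2, sub_self]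
    have h3 : ((1 - π) * nu • (1 : Module.End F V) + π) (y a - a) = nu • (y a - a) := by
      rw [mul_smul_comm, mul_one, LinearMap.add_apply, LinearMap.smul_apply, LinearMap.sub_apply, h1,
        Module.End.one_apply, sub_zero, add_zero]
    rw [hz, hz, ← adj_spec nd, ← Module.End.mul_apply, hprod, h3, map_smul, LinearMap.smul_apply, smul_eq_mul]

end main

end Cfsg.Agent.H560.KBConj
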