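import Cfsg.Agent.OddRank.SzTits
import Cfsg.Agent.S1156

/-!
# S4822, W6: `Sz`, `²G₂` and the Tits group have cyclic Sylow `p`-subgroups for `p ≥ 11` (helper560)
-/

set_option autoImplicit false

namespace Cfsg.Agent.H560.KBCyc

open Cfsg

universe u

variable {p : ℕ} [hp : Fact p.Prime] {S : Type u} [Group S] [Finite S]

theorem cyc_sz (h11 : 11 ≤ p) (h : Lie.IsoSuzuki S) (hP : ∀ P : Sylow p S, ¬ IsCyclic (P : Subgroup S)) : False :=
  hP default (OddRank.SzTits.isCyclic_of_isPGroup h (by omega) _ (default : Sylow p S).isPGroup')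

theorem cyc_ree (h11 : 11 ≤ p) (h : Lie.IsoRee S) (hP : ∀ P : Sylow p S, ¬ IsCyclic (P : Subgroup S)) : False := by
  obtain ⟨K, _, _, m, hm, hK, ⟨f⟩⟩ := h
  have : Finite ↥(Cfsg.Lie.twistedG2 K (3 ^ m)) := Finite.of_equiv _ f.toEquiv
  have P : Sylow p S := default
  obtain ⟨T, hT⟩ := (P.isPGroup'.map (f : S →* ↥(Cfsg.Lie.twistedG2 K (3 ^ m)))).exists_le_sylow
  have := Cfsg.Agent.S1156.result hm hK (by omega) T
  have h1 : IsCyclic ↥((P : Subgroup S).map (f : S →* ↥(Cfsg.Lie.twistedG2 K (3 ^ m)))) :=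
    isCyclic_of_injective (Subgroup.inclusion hT) (Subgroup.inclusion_injective hT)
  exact hP P (isCyclic_of_surjective (f.subgroupMap (P : Subgroup S)).symm (f.subgroupMap (P : Subgroup S)).symm.surjective)

theorem cyc_tits (h11 : 11 ≤ p) (h : Lie.IsoTits S) (hP : ∀ P : Sylow p S, ¬ IsCyclic (P : Subgroup S)) : False := by
  have hc := OddRank.SzTits.tits_card h
  have P : Sylow p S := default
  have hPc : Nat.card (P : Subgroup S) = p ^ (Nat.card S).factorization p := P.card_eq_multiplicity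
  have hpp : p.Prime := hp.out
  have hle : (Nat.card S).factorization p ≤ 1 := by
    by_contra hcon
    push Not at hcon
    have h1 : p ^ 2 ∣ Nat.card S := (pow_dvd_pow p hcon).trans (Nat.ordProj_dvd _ _)
    have h2 : p ∣ Nat.card S := (dvd_pow_self p two_ne_zero).trans h1
    rw [hc] at h1 h2
    have h3 : p = 13 := by
      rcases (Nat.Prime.dvd_mul hpp).1 h2 with h2 | h2
      · rcases (Nat.Prime.dvd_mul hpp).1 h2 with h2 | h2
        · rcases (Nat.Prime.dvd_mul hpp).1 h2 with h2 | h2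
          · have := Nat.le_of_dvd (by norm_num) (hpp.dvd_of_dvd_pow h2); omega
          · have := Nat.le_of_dvd (by norm_num) (hpp.dvd_of_dvd_pow h2); omega
        · have := Nat.le_of_dvd (by norm_num) (hpp.dvd_of_dvd_pow h2); omega
      · exact (Nat.prime_dvd_prime_iff_eq hpp (by norm_num)).1 h2
    subst h3
    norm_num at h1
  rcases Nat.le_one_iff_eq_zero_or_eq_one.1 hle with h0 | h0
  · rw [h0, pow_zero] at hPc
    have : Subsingleton (P : Subgroup S) := (Nat.card_eq_one_iff_unique.1 hPc).1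
    exact hP P inferInstance
  · rw [h0, pow_one] at hPc
    exact hP P (isCyclic_of_prime_card hPc)

end Cfsg.Agent.H560.KBCyc
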